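import Mathlib.RingTheory.Valuation.LocalSubring
import Mathlib.Analysis.Complex.Polynomial.Basic
import Mathlib.RepresentationTheory.Invariants
import Mathlib.LinearAlgebra.Trace
import Mathlib.GroupTheory.Sylow
import Mathlib.GroupTheory.GroupAction.Quotient
import Mathlib.RingTheory.LocalRing.ResidueField.Basic
import Mathlib.Algebra.CharP.Lemmas
import Mathlib.Algebra.CharP.Algebra
import Mathlib.Algebra.Algebra.ZMod
import Mathlib.Algebra.Field.ZMod
import Mathlib.Algebra.Polynomial.AlgebraMap
import Mathlib.RepresentationTheory.Character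
import Mathlib.LinearAlgebra.Matrix.ToLin

/-!
# Fixed points of a lattice without free blocks over a Sylow subgroup of prime order

If the reduction of a generator of a Sylow subgroup `P` of order `p` acts with nilpotency index
less than `p`, then the fixed points of the normalizer of `P` are fixed points of the whole group.
-/

set_option autoImplicit false

open scoped Classical

namespace CfsgLib.LatticeFix

universe u v

/-- A valuation subring of the complex numbers in which `p` is a nonunit. -/
theorem exists_subring (p : ℕ) (hp : p.Prime) :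
    ∃ O : ValuationSubring ℂ, (p : ℂ) ∈ O.nonunits := by
  let A : Subring ℂ := (Int.castRingHom ℂ).range
  let I : Ideal A := Ideal.span {(p : A)}
  have hI : I ≠ ⊤ := by
    intro h
    rw [Ideal.span_singleton_eq_top] at h
    obtain ⟨b, hb⟩ := h.exists_right_inv
    obtain ⟨m, hm⟩ := b.2
    have h1 : ((p : ℤ) * m : ℂ) = 1 := by
      have := congrArg Subtype.val hb
      simpa [← hm] using this
    have h2 : (p : ℤ) * m = 1 := by exact_mod_cast h1
    have h3 : (p : ℤ) ∣ 1 := ⟨m, h2.symm⟩
    exact hp.not_dvd_one (by exact_mod_cast h3)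
  obtain ⟨O, -, hO⟩ := Ideal.image_subset_nonunits_valuationSubring I hI
  exact ⟨O, hO ⟨(p : A), Ideal.subset_span rfl, map_natCast A.subtype p⟩⟩

variable {p : ℕ} {O : ValuationSubring ℂ}

theorem residue_natCast_eq_zero (hO : (p : ℂ) ∈ O.nonunits) :
    IsLocalRing.residue O (p : O) = 0 := by
  rw [IsLocalRing.residue_eq_zero_iff]
  obtain ⟨h, hm⟩ := (ValuationSubring.mem_nonunits_iff_exists_mem_maximalIdeal).1 hO
  convert hm
  exact map_natCast O.subtype p

/-- The sum of the powers below `p` in characteristic `p`. -/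
theorem geom_sum_eq_sub_one_pow [hp : Fact p.Prime] {A : Type*} [Ring A] (hA : (p : A) = 0)
    (x : A) : ∑ j ∈ Finset.range p, x ^ j = (x - 1) ^ (p - 1) := by
  obtain hs | hn := subsingleton_or_nontrivial A
  · exact Subsingleton.elim _ _
  haveI : CharP A p := (CharP.charP_iff_prime_eq_zero hp.out).2 hA
  let _ := ZMod.algebra A p
  have key : (∑ j ∈ Finset.range p, (Polynomial.X : Polynomial (ZMod p)) ^ j) =
      (Polynomial.X - 1) ^ (p - 1) := by
    refine mul_right_cancel₀ (Polynomial.X_sub_C_ne_zero (1 : ZMod p)) ?_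
    rw [map_one, geom_sum_mul, ← pow_succ, Nat.sub_add_cancel hp.out.one_le, sub_pow_char, one_pow]
  have h := congrArg (Polynomial.aeval x) key
  simpa using h

variable {G : Type u} [Group G] [Fintype G] [hp : Fact p.Prime] (P : Sylow p G)
variable {ι : Type v} [Fintype ι] [DecidableEq ι]

local notation "N" => Subgroup.normalizer ((P : Subgroup G) : Set G)

/-- The complex matrices of an integral representation. -/
noncomputable def cx (σ : G →* Matrix ι ι O) : Representation ℂ G (ι → ℂ) :=
  (Matrix.toLinAlgEquiv' (R := ℂ) (n := ι)).toAlgHom.toMonoidHom.comp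
    ((O.subtype.mapMatrix (m := ι)).toMonoidHom.comp σ)

theorem cx_apply (σ : G →* Matrix ι ι O) (g : G) (v : ι → ℂ) :
    cx σ g v = ((σ g).map O.subtype).mulVec v := rfl

theorem cx_character (σ : G →* Matrix ι ι O) (g : G) :
    (cx σ).character g = ((σ g).trace : ℂ) := by
  simp only [Representation.character, cx]
  change LinearMap.trace ℂ _ (Matrix.toLin' ((σ g).map O.subtype)) = _
  rw [Matrix.trace_toLin'_eq]
  exact (AddMonoidHom.map_trace O.subtype.toAddMonoidHom (σ g)).symm

theorem mem_of_pElem_normalizer {y : G} (hy : y ∈ N) (hyp : ∃ k, y ^ p ^ k = 1) :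
    y ∈ (P : Subgroup G) := by
  obtain ⟨k, hk⟩ := hyp
  have hY : IsPGroup p (Subgroup.zpowers y) := by
    obtain ⟨j, -, hj⟩ := (Nat.dvd_prime_pow hp.out).1 (orderOf_dvd_of_pow_eq_one hk)
    exact IsPGroup.of_card (n := j) (by rw [Nat.card_zpowers, hj])
  have hle : Subgroup.zpowers y ≤ N := Subgroup.zpowers_le.2 hy
  have hsup : IsPGroup p (Subgroup.zpowers y ⊔ (P : Subgroup G) : Subgroup G) :=
    hY.to_sup_of_normal_right' P.2 hle
  have := P.3 hsup le_sup_right
  exact this ▸ (le_sup_left (b := (P : Subgroup G)) (Subgroup.mem_zpowers y))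

/-- Fixed points of the normalizer are fixed by the whole group. -/
theorem invariants_eq (hO : (p : ℂ) ∈ O.nonunits) (hP : Nat.card (P : Subgroup G) = p)
    (σ : G →* Matrix ι ι O)
    (hσ : ∀ s ∈ (P : Subgroup G), ((σ s).map (IsLocalRing.residue O) - 1) ^ (p - 1) = 0) :
    Representation.invariants ((cx σ).comp (N).subtype) = Representation.invariants (cx σ) := by
  set ρ := cx σ with hρ
  set WN := Representation.invariants (ρ.comp (N).subtype) with hWN
  set WG := Representation.invariants ρ with hWG
  have hGN : WG ≤ WN := fun v hv n => hv n.1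
  have hN : ∀ v ∈ WN, ∀ n ∈ N, ρ n v = v := fun v hv n hn => hv ⟨n, hn⟩
  let T : (ι → ℂ) →ₗ[ℂ] (ι → ℂ) := ∑ c : G ⧸ (N), ρ c.out
  have hout : ∀ (v : ι → ℂ), v ∈ WN → ∀ g : G, ρ (g : G ⧸ (N)).out v = ρ g v := by
    intro v hv g
    obtain ⟨n, hn⟩ := QuotientGroup.mk_out_eq_mul (N) g
    rw [hn, map_mul, Module.End.mul_apply, hN v hv n n.2]
  have hTG : ∀ v ∈ WN, T v ∈ WG := by
    intro v hv g
    simp only [T, LinearMap.sum_apply, map_sum]
    refine Fintype.sum_equiv (MulAction.toPerm g) _ _ fun c => ?_
    rw [← Module.End.mul_apply, ← map_mul, ← hout v hv (g * c.out)]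
    congr 3
    rw [MulAction.toPerm_apply]
    conv_rhs => rw [← c.out_eq']
    rfl
  by_contra hne
  have hlt : Module.finrank ℂ WG < Module.finrank ℂ WN :=
    Submodule.finrank_lt_finrank_of_lt (lt_of_le_of_ne hGN fun e => hne e.symm)
  let f : WN →ₗ[ℂ] WG := (T.comp WN.subtype).codRestrict WG fun v => hTG v v.2
  have hker : f.ker ≠ ⊥ := f.ker_ne_bot_of_finrank_lt hlt
  obtain ⟨⟨v, hv⟩, hvk, hv0⟩ := (Submodule.ne_bot_iff _).1 hker
  have hTv : T v = 0 := congrArg Subtype.val (LinearMap.mem_ker.1 hvk)
  have hv0' : v ≠ 0 := fun e => hv0 (Subtype.ext e)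
  -- scale to a primitive integral vector
  obtain ⟨i₁, hi₁⟩ := Function.ne_iff.1 hv0'
  obtain ⟨i, -, hi⟩ := Finset.exists_max_image Finset.univ (fun i => O.valuation (v i))
    ⟨i₁, Finset.mem_univ _⟩
  have hvi : v i ≠ 0 := by
    intro h
    have h1 := hi i₁ (Finset.mem_univ _)
    rw [h, map_zero, le_zero_iff, Valuation.zero_iff] at h1
    exact hi₁ h1
  have hmem : ∀ j, v j / v i ∈ O := fun j => by
    rw [← O.valuation_le_one_iff, map_div₀]
    exact div_le_one_of_le₀ (hi j (Finset.mem_univ _)) zero_le'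
  let w : ι → O := fun j => ⟨v j / v i, hmem j⟩
  have hw : (fun j => (w j : ℂ)) = (v i)⁻¹ • v := by
    funext j
    simp [w, div_eq_inv_mul]
  have hwN : (fun j => (w j : ℂ)) ∈ WN := hw ▸ Submodule.smul_mem _ _ hv
  have hTw : T (fun j => (w j : ℂ)) = 0 := by rw [hw, map_smul, hTv, smul_zero]
  -- reduce
  set π := IsLocalRing.residue O with hπ
  let σb : G →* Matrix ι ι (IsLocalRing.ResidueField O) :=
    (π.mapMatrix (m := ι)).toMonoidHom.comp σ
  let wb : ι → IsLocalRing.ResidueField O := fun j => π (w j)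
  have hcast : ∀ (M : Matrix ι ι O) (u : ι → O),
      (M.map O.subtype).mulVec (fun j => (u j : ℂ)) = fun j => ((M.mulVec u) j : ℂ) := by
    intro M u
    funext j
    exact (RingHom.map_mulVec O.subtype M u j).symm
  have hred : ∀ (M : Matrix ι ι O) (u : ι → O),
      (M.map π).mulVec (fun j => π (u j)) = fun j => π ((M.mulVec u) j) := by
    intro M u
    funext j
    exact (RingHom.map_mulVec π M u j).symm
  have hbN : ∀ n ∈ N, (σb n).mulVec wb = wb := by
    intro n hn
    have h1 := hN _ hwN n hn
    rw [hρ, cx_apply, hcast] at h1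
    change ((σ n).map π).mulVec _ = _
    rw [hred]
    funext j
    exact congrArg π (Subtype.ext (congrFun h1 j))
  have hbT : ∑ c : G ⧸ (N), (σb c.out).mulVec wb = 0 := by
    have h1 : ∀ j, (∑ c : G ⧸ (N), ((σ c.out).mulVec w) j : O) = 0 := by
      intro j
      refine Subtype.ext ?_
      have h2 := congrFun hTw j
      simp only [T, LinearMap.sum_apply, hρ, cx_apply, hcast, Finset.sum_apply] at h2
      simpa using h2
    funext j
    simp only [Finset.sum_apply, Pi.zero_apply]
    change ∑ c : G ⧸ (N), (((σ c.out).map π).mulVec fun j => π (w j)) j = 0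
    simp only [hred, ← map_sum, h1 j, map_zero]
  let F : G ⧸ (N) → (ι → IsLocalRing.ResidueField O) := fun c => (σb c.out).mulVec wb
  have hF : ∀ (g : G) (c : G ⧸ (N)), F (g • c) = (σb g).mulVec (F c) := by
    intro g c
    simp only [F, Matrix.mulVec_mulVec, ← map_mul]
    have : (g • c) = ((g * c.out : G) : G ⧸ (N)) := by
      conv_lhs => rw [← c.out_eq']
      rfl
    rw [this]
    obtain ⟨n, hn⟩ := QuotientGroup.mk_out_eq_mul (N) (g * c.out)
    rw [hn, map_mul σb, ← Matrix.mulVec_mulVec, hbN n n.2]
  have hone : F ((1 : G) : G ⧸ (N)) = wb := by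
    obtain ⟨n, hn⟩ := QuotientGroup.mk_out_eq_mul (N) (1 : G)
    simp only [F]
    rw [hn, one_mul]
    exact hbN n n.2
  -- the cosets moved by `P` cancel in orbits
  have hfree : ∀ c : G ⧸ (N), c ≠ ((1 : G) : G ⧸ (N)) → ∀ s : (P : Subgroup G), s • c = c →
      s = 1 := by
    intro c hc s hs
    by_contra hs1
    apply hc
    induction c using QuotientGroup.induction_on with
    | H g =>
      have h1 : g⁻¹ * (s : G) * g ∈ N := by
        have h2 : (((s : G) * g : G) : G ⧸ (N)) = (g : G ⧸ (N)) := hs
        have h3 := QuotientGroup.eq.1 h2.symm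
        simpa [mul_assoc] using h3
      have h2 : g⁻¹ * (s : G) * g ∈ (P : Subgroup G) := by
        refine mem_of_pElem_normalizer P h1 ⟨1, ?_⟩
        have h4 : s ^ p = 1 := by
          have h := pow_card_eq_one' (x := s)
          rwa [hP] at h
        rw [pow_one, show g⁻¹ * (s : G) * g = g⁻¹ * (s : G) * (g⁻¹)⁻¹ by rw [inv_inv], conj_pow,
          ← SubmonoidClass.coe_pow, h4]
        simp
      have hgen : ∀ t : (P : Subgroup G), t ∈ Subgroup.zpowers s := fun t => by
        rw [zpowers_eq_top_of_prime_card hP hs1]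
        exact Subgroup.mem_top t
      have hg : g⁻¹ ∈ N := by
        rw [Subgroup.mem_normalizer_iff]
        have hle : (P : Subgroup G).map (MulAut.conj g⁻¹).toMonoidHom ≤ (P : Subgroup G) := by
          rintro _ ⟨t, ht, rfl⟩
          obtain ⟨k, hk⟩ := Subgroup.mem_zpowers_iff.1 (hgen ⟨t, ht⟩)
          have h5 : (s : G) ^ k = t := congrArg Subtype.val hk
          rw [← h5]
          simp only [MulEquiv.coe_toMonoidHom, map_zpow, MulAut.conj_apply, inv_inv]
          exact zpow_mem h2 k
        have heq := Subgroup.eq_of_le_of_card_ge hle (Nat.card_congr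
          ((P : Subgroup G).equivMapOfInjective (MulAut.conj g⁻¹).toMonoidHom
            (MulAut.conj g⁻¹).injective).toEquiv).le
        intro y
        constructor
        · exact fun hy => hle ⟨y, hy, rfl⟩
        · intro hy
          obtain ⟨z, hz, hzy⟩ : g⁻¹ * y * g⁻¹⁻¹ ∈
              (P : Subgroup G).map (MulAut.conj g⁻¹).toMonoidHom := by rw [heq]; exact hy
          have : z = y := (MulAut.conj g⁻¹).injective hzy
          exact this ▸ hz
      exact QuotientGroup.eq.2 (by simpa using hg)
  have hsum : ∑ s : (P : Subgroup G), σb (s : G) = 0 := by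
    have : Nontrivial (P : Subgroup G) := by
      rw [← Finite.one_lt_card_iff_nontrivial, hP]; exact hp.out.one_lt
    obtain ⟨x, hx⟩ := exists_ne (1 : (P : Subgroup G))
    have hx' : orderOf x = p := orderOf_eq_prime (by
      have h := pow_card_eq_one' (x := x)
      rwa [hP] at h) hx
    have hinj : Set.InjOn (fun j : ℕ => x ^ j) (Finset.range p : Set ℕ) := by
      intro a ha b hb e
      exact pow_injOn_Iio_orderOf (by simpa [hx'] using ha) (by simpa [hx'] using hb) e
    have himg : (Finset.range p).image (fun j : ℕ => x ^ j) = Finset.univ := by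
      refine Finset.eq_univ_of_card _ ?_
      rw [Finset.card_image_of_injOn hinj, Finset.card_range, ← Nat.card_eq_fintype_card, hP]
    rw [← himg, Finset.sum_image hinj]
    simp only [SubmonoidClass.coe_pow, map_pow]
    rw [geom_sum_eq_sub_one_pow (p := p) ?_]
    · exact hσ x x.2
    · rw [← map_natCast (Matrix.scalar ι), ← map_natCast π, residue_natCast_eq_zero hO, map_zero]
  let act : MulAction (P : Subgroup G) {c : G ⧸ (N) // c ≠ ((1 : G) : G ⧸ (N))} :=
    { smul := fun s c => ⟨(s : G) • c.1, fun e => c.2 (by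
        have hsN : ((s : G)⁻¹ : G) ∈ N :=
          Subgroup.le_normalizer ((P : Subgroup G).inv_mem s.2)
        rw [← inv_smul_smul (s : G) c.1, e]
        exact QuotientGroup.eq.2 (by simpa using hsN))⟩
      one_smul := fun c => Subtype.ext (one_smul G c.1)
      mul_smul := fun s t c => Subtype.ext (mul_smul (s : G) (t : G) c.1) }
  have hzero : ∑ c : {c : G ⧸ (N) // c ≠ ((1 : G) : G ⧸ (N))}, F c.1 = 0 := by
    let Ω := Quotient (MulAction.orbitRel (P : Subgroup G)
      {c : G ⧸ (N) // c ≠ ((1 : G) : G ⧸ (N))})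
    let e : Ω × (P : Subgroup G) → {c : G ⧸ (N) // c ≠ ((1 : G) : G ⧸ (N))} :=
      fun z => z.2 • z.1.out
    have he : Function.Bijective e := by
      constructor
      · rintro ⟨a, s⟩ ⟨b, t⟩ h
        simp only [e] at h
        have hab : a = b := by
          rw [← a.out_eq, ← b.out_eq]
          refine Quotient.sound ⟨s⁻¹ * t, ?_⟩
          change (s⁻¹ * t) • b.out = a.out
          rw [mul_smul, ← h, inv_smul_smul]
        subst hab
        have h1 : (t⁻¹ * s) • a.out = a.out := by
          rw [mul_smul]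
          exact inv_smul_eq_iff.2 h
        have := hfree a.out.1 a.out.2 (t⁻¹ * s) (congrArg Subtype.val h1)
        rw [inv_mul_eq_one.1 this]
      · intro c
        obtain ⟨s, hs⟩ := Quotient.mk_out (s := MulAction.orbitRel (P : Subgroup G)
          {c : G ⧸ (N) // c ≠ ((1 : G) : G ⧸ (N))}) c
        exact ⟨(⟦c⟧, s⁻¹), by simp only [e]; rw [← hs]; exact inv_smul_smul s c⟩
    rw [← (Equiv.ofBijective e he).sum_comp, Fintype.sum_prod_type]
    refine Finset.sum_eq_zero fun a _ => ?_
    have : ∀ s : (P : Subgroup G), F ((Equiv.ofBijective e he (a, s)).1) =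
        (σb (s : G)).mulVec (F a.out.1) := fun s => hF (s : G) a.out.1
    simp only [this]
    rw [← Matrix.sum_mulVec, hsum, Matrix.zero_mulVec]
  have hwb : wb = 0 := by
    have h2 := Fintype.sum_eq_add_sum_subtype_ne F ((1 : G) : G ⧸ (N))
    rw [hone, hzero, add_zero] at h2
    exact h2 ▸ hbT
  have h3 := congrFun hwb i
  have h4 : w i = 1 := Subtype.ext (by simp [w, div_self hvi])
  simp [wb, h4] at h3

/-- The averages of the character over the group and over the normalizer agree. -/
theorem average_eq (hO : (p : ℂ) ∈ O.nonunits) (hP : Nat.card (P : Subgroup G) = p)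
    (σ : G →* Matrix ι ι O)
    (hσ : ∀ s ∈ (P : Subgroup G), ((σ s).map (IsLocalRing.residue O) - 1) ^ (p - 1) = 0) :
    (Nat.card G : ℂ)⁻¹ * ∑ g : G, ((σ g).trace : ℂ) =
      (Nat.card (N) : ℂ)⁻¹ * ∑ n : (N), ((σ (n : G)).trace : ℂ) := by
  have key : ∀ (H : Type u) [Group H] [Fintype H] (τ : Representation ℂ H (ι → ℂ)),
      (Nat.card H : ℂ)⁻¹ * ∑ h, τ.character h =
        Module.finrank ℂ (Representation.invariants τ) := by
    intro H _ _ τ
    haveI : Invertible (Fintype.card H : ℂ) :=
      invertibleOfNonzero (Nat.cast_ne_zero.2 Fintype.card_ne_zero)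
    rw [← (Representation.isProj_averageMap τ).trace]
    simp [Representation.averageMap, GroupAlgebra.average, Representation.character,
      map_sum, Representation.asAlgebraHom_of, Nat.card_eq_fintype_card]
  have h1 := key G (cx σ)
  have h2 := key (N) ((cx σ).comp (N).subtype)
  simp only [cx_character] at h1
  have e : ∀ n : (N), (Representation.character ((cx σ).comp (N).subtype)) n =
      ((σ (n : G)).trace : ℂ) := fun n => cx_character σ (n : G)
  simp only [e] at h2
  rw [invariants_eq P hO hP σ hσ] at h2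
  rw [h1, h2]

end CfsgLib.LatticeFix
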