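import Cfsg.Agent.Lib.LatticeFix.Core
import Cfsg.Agent.Lib.SmallDegree.Spectrum
import Mathlib.RingTheory.LocalRing.Module
import Mathlib.RingTheory.Flat.TorsionFree
import Mathlib.RingTheory.Localization.Module
import Mathlib.LinearAlgebra.Matrix.Kronecker

/-!
# Integral realization of a character and the nilpotency index on a subgroup of prime order
-/

set_option autoImplicit false

open scoped Classical Kronecker ComplexConjugate

namespace CfsgLib.LatticeFix

universe u

variable {G : Type u} [Group G] [Fintype G] {p : ℕ} [hp : Fact p.Prime]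
  {O : ValuationSubring ℂ}

/-- A representation over `ℂ` of a finite group has an integral form over `O`. -/
theorem exists_integral_form {n : ℕ} (ρ : Representation ℂ G (Fin n → ℂ)) :
    ∃ (r : ℕ) (c : Module.Basis (Fin r) ℂ (Fin n → ℂ)) (σ : G →* Matrix (Fin r) (Fin r) O),
      ∀ g, LinearMap.toMatrixAlgEquiv c (ρ g) = (σ g).map O.subtype := by
  let S : Set (Fin n → ℂ) := Set.range fun z : G × Fin n => ρ z.1 (Pi.single z.2 1)
  let L : Submodule O (Fin n → ℂ) := Submodule.span O S
  haveI : Module.Finite O L := Module.Finite.span_of_finite O (Set.finite_range _)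
  haveI : Module.IsTorsionFree O L := inferInstance
  haveI : Module.Flat O L := by
    rw [Module.Flat.flat_iff_torsion_eq_bot_of_isBezout, ← Submodule.isTorsionFree_iff_torsion_eq_bot]
    infer_instance
  haveI : Module.Free O L := Module.free_of_flat_of_isLocalRing
  let c := Module.finBasis O L
  set r := Module.finrank O L
  have hind : LinearIndependent ℂ (fun i => ((c i : L) : Fin n → ℂ)) := by
    rw [← LinearIndependent.iff_fractionRing O ℂ]
    exact c.linearIndependent.map' L.subtype L.ker_subtype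
  have hspan : ⊤ ≤ Submodule.span ℂ (Set.range fun i => ((c i : L) : Fin n → ℂ)) := by
    intro v _
    rw [← (Pi.basisFun ℂ (Fin n)).sum_repr v]
    refine Submodule.sum_mem _ fun i _ => Submodule.smul_mem _ _ ?_
    have hi : (Pi.single i 1 : Fin n → ℂ) ∈ L :=
      Submodule.subset_span ⟨(1, i), by simp⟩
    rw [Pi.basisFun_apply]
    have h := congrArg L.subtype (c.sum_repr ⟨_, hi⟩)
    simp only [map_sum, map_smul, Submodule.subtype_apply] at h
    rw [← h]
    refine Submodule.sum_mem _ fun j _ => ?_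
    exact Submodule.smul_of_tower_mem _ _ (Submodule.subset_span ⟨j, rfl⟩)
  let C := Module.Basis.mk hind hspan
  have hinv : ∀ g, ∀ v ∈ L, ρ g v ∈ L := by
    intro g v hv
    induction hv using Submodule.span_induction with
    | mem v hv =>
      obtain ⟨⟨h, i⟩, rfl⟩ := hv
      exact Submodule.subset_span ⟨(g * h, i), by simp⟩
    | zero => simp
    | add a b _ _ ha hb => rw [map_add]; exact add_mem ha hb
    | smul a v _ hv =>
      rw [show (a • v : Fin n → ℂ) = (a : ℂ) • v from rfl, map_smul]
      exact Submodule.smul_mem _ a hv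
  let τ : G →* Module.End O L :=
    { toFun := fun g =>
        { toFun := fun v => ⟨ρ g v, hinv g v v.2⟩
          map_add' := fun v w => Subtype.ext (map_add (ρ g) _ _)
          map_smul' := fun a v => Subtype.ext (by
            change ρ g ((a : ℂ) • (v : Fin n → ℂ)) = (a : ℂ) • ρ g v
            exact map_smul _ _ _) }
      map_one' := LinearMap.ext fun v => Subtype.ext (by simp)
      map_mul' := fun g h => LinearMap.ext fun v => Subtype.ext (by simp) }
  refine ⟨r, C, (LinearMap.toMatrixAlgEquiv c).toAlgHom.toMonoidHom.comp τ, fun g => ?_⟩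
  ext i j
  have h := congrArg L.subtype (c.sum_repr (τ g (c j)))
  simp only [map_sum, map_smul, Submodule.subtype_apply] at h
  have h2 : ρ g (C j) = ∑ i, ((c.repr (τ g (c j)) i : O) : ℂ) • C i := by
    simp only [C, Module.Basis.mk_apply]
    exact h.symm
  rw [LinearMap.toMatrixAlgEquiv_apply, h2, C.repr_sum_self]
  simp [LinearMap.toMatrixAlgEquiv_apply]

theorem root_mem {ζ : ℂ} {m : ℕ} (hm : m ≠ 0) (h : ζ ^ m = 1) : ζ ∈ O := by
  rcases O.mem_or_inv_mem ζ with h1 | h1
  · exact h1
  · have h2 : ζ = ζ⁻¹ ^ (m - 1) := by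
      rw [inv_pow]
      refine (inv_eq_of_mul_eq_one_left ?_).symm
      rw [← pow_succ', Nat.sub_add_cancel (Nat.pos_of_ne_zero hm), h]
    rw [h2]
    exact pow_mem h1 _

theorem residue_root (hO : (p : ℂ) ∈ O.nonunits) {ζ : O} (h : (ζ : ℂ) ^ p = 1) :
    IsLocalRing.residue O ζ = 1 := by
  have hc := residue_natCast_eq_zero hO
  rw [map_natCast] at hc
  haveI : CharP (IsLocalRing.ResidueField O) p := (CharP.charP_iff_prime_eq_zero hp.out).2 hc
  have h1 : IsLocalRing.residue O ζ ^ p = 1 := by
    rw [← map_pow, show ζ ^ p = 1 from Subtype.ext (by simpa using h), map_one]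
  have h2 : (IsLocalRing.residue O ζ - 1) ^ p = 0 := by rw [sub_pow_char, h1, one_pow, sub_self]
  exact sub_eq_zero.1 (pow_eq_zero_iff hp.out.ne_zero |>.1 h2)

open CfsgLib.SmallDegree CfsgLib.Char

variable {P : Sylow p G}

/-- An integral form of a character with nilpotency index at most the number of linear characters
of `P` occurring in it. -/
theorem exists_integral_of_supp (h : Uniform P) (hP : Nat.card (P : Subgroup G) = p)
    (hO : (p : ℂ) ∈ O.nonunits) {f : G → ℂ} (hf : Cfsg.IsCharacter G f) :
    ∃ (r : ℕ) (σ : G →* Matrix (Fin r) (Fin r) O), (∀ g, ((σ g).trace : ℂ) = f g) ∧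
      ∀ s ∈ (P : Subgroup G),
        ((σ s).map (IsLocalRing.residue O) - 1) ^ (h.supp f).card = 0 := by
  obtain ⟨n, ρ, rfl⟩ := id hf
  obtain ⟨r, c, σ, hσ⟩ := exists_integral_form (O := O) ρ
  refine ⟨r, σ, fun g => ?_, fun s hs => ?_⟩
  · rw [Representation.character, LinearMap.trace_eq_matrix_trace ℂ c,
      show LinearMap.toMatrix c c (ρ g) = _ from hσ g]
    exact AddMonoidHom.map_trace O.subtype.toAddMonoidHom (σ g)
  set sP : (P : Subgroup G) := ⟨s, hs⟩
  have hsp : sP ^ p = 1 := by
    have h1 := pow_card_eq_one' (x := sP)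
    rwa [hP] at h1
  have hspG : s ^ p = 1 := congrArg Subtype.val hsp
  obtain ⟨b, μ, hμ, hb⟩ := CfsgLib.Char.exists_eigenbasis_of_pow_eq_one (ρ s) hp.out.ne_zero
    (by rw [← map_pow, hspG, map_one])
  set Z := (h.supp ρ.character).image fun a => (a sP : ℂ) with hZ
  have hZp : ∀ z ∈ Z, z ^ p = 1 := by
    intro z hz
    obtain ⟨a, -, rfl⟩ := Finset.mem_image.1 hz
    rw [← Units.val_pow_eq_pow_val, ← map_pow, hsp, map_one, Units.val_one]
  -- every eigenvalue is a value of a constituent
  have hmem : ∀ i, μ i ∈ Z := by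
    intro i
    by_contra hi
    have hpow : ∀ j : ℕ, ρ.character (s ^ j) = ∑ k, μ k ^ j := fun j => by
      refine trace_eq_sum_of_eigenbasis _ b _ fun k => ?_
      induction j with
      | zero => simp
      | succ j ih =>
        rw [map_pow] at ih ⊢
        rw [pow_succ', Module.End.mul_apply, ih, map_smul, hb, smul_smul, pow_succ]
    have hne : μ i ≠ 0 := fun h0 => by simpa [h0, hp.out.ne_zero] using hμ i
    have hgeom : ∀ z : ℂ, z ^ p = 1 →
        ∑ j ∈ Finset.range p, ((μ i)⁻¹ * z) ^ j = if z = μ i then (p : ℂ) else 0 := by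
      intro z hz
      split_ifs with e
      · simp [e, inv_mul_cancel₀ hne]
      · have h1 : (μ i)⁻¹ * z ≠ 1 := fun e' => e (inv_mul_eq_one₀ hne |>.1 e').symm
        rw [geom_sum_eq h1, mul_pow, inv_pow, hμ, hz]
        simp
    have h1 : ∑ j ∈ Finset.range p, (μ i)⁻¹ ^ j * ρ.character (s ^ j) =
        ∑ k, (if μ k = μ i then (p : ℂ) else 0) := by
      simp only [hpow, Finset.mul_sum]
      rw [Finset.sum_comm]
      refine Finset.sum_congr rfl fun k _ => ?_
      rw [← hgeom _ (hμ k)]
      simp [mul_pow]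
    have h2 : ∑ j ∈ Finset.range p, (μ i)⁻¹ ^ j * ρ.character (s ^ j) = 0 := by
      have h3 : ∀ j : ℕ, ρ.character (s ^ j) =
          ∑ η : Cfsg.IrrCharacter (cen P), (wt ρ.character η : ℂ) * (h.lam η sP : ℂ) ^ j := by
        intro j
        have h4 := h.restrict_P hf (sP ^ j)
        rw [SubmonoidClass.coe_pow] at h4
        simpa [map_pow] using h4
      simp only [h3, Finset.mul_sum]
      rw [Finset.sum_comm]
      refine Finset.sum_eq_zero fun η _ => ?_
      by_cases hm : mult ρ.character η = 0
      · simp [wt, hm]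
      · have hz : (h.lam η sP : ℂ) ∈ Z :=
          Finset.mem_image.2 ⟨_, h.mem_supp.2 ⟨η, hm, rfl⟩, rfl⟩
        have h5 := hgeom _ (hZp _ hz)
        rw [if_neg fun e : (h.lam η sP : ℂ) = μ i => hi (e ▸ hz)] at h5
        simp only [mul_pow] at h5
        simp only [mul_left_comm _ (wt ρ.character η : ℂ)]
        rw [← Finset.mul_sum, h5, mul_zero]
    rw [h2, Finset.sum_ite, Finset.sum_const_zero, add_zero, Finset.sum_const, nsmul_eq_mul] at h1
    rcases mul_eq_zero.1 h1.symm with h6 | h6
    · rw [Nat.cast_eq_zero, Finset.card_eq_zero, Finset.filter_eq_empty_iff] at h6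
      exact h6 (Finset.mem_univ i) rfl
    · exact hp.out.ne_zero (Nat.cast_eq_zero.1 h6)
  -- the polynomial with these roots kills the operator
  let Q : Polynomial ℂ := ∏ z ∈ Z, (Polynomial.X - Polynomial.C z)
  have hQ : Polynomial.aeval (ρ s) Q = 0 := by
    refine b.ext fun i => ?_
    rw [LinearMap.zero_apply, Module.End.aeval_apply_of_hasEigenvector
      ⟨Module.End.mem_eigenspace_iff.2 (hb i), b.ne_zero i⟩]
    have : Q.eval (μ i) = 0 := by
      rw [Polynomial.eval_prod]
      exact Finset.prod_eq_zero (hmem i) (by simp)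
    rw [this, zero_smul]
  let QO : Polynomial O :=
    ∏ z ∈ Z.attach, (Polynomial.X - Polynomial.C ⟨z.1, root_mem hp.out.ne_zero (hZp _ z.2)⟩)
  have hmap : QO.map O.subtype = Q := by
    simp only [QO, Q, Polynomial.map_prod, Polynomial.map_sub, Polynomial.map_X,
      Polynomial.map_C]
    exact Finset.prod_attach Z (fun z => Polynomial.X - Polynomial.C z)
  have hQσ : Polynomial.aeval (σ s) QO = 0 := by
    refine Matrix.map_injective O.subtype_injective ?_
    change (O.subtype.mapMatrix) (Polynomial.aeval (σ s) QO) = O.subtype.mapMatrix 0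
    rw [map_zero, Polynomial.map_aeval_eq_aeval_map (φ := O.subtype) (ψ := O.subtype.mapMatrix)
      (by ext a i j; by_cases hij : i = j <;> simp [Matrix.algebraMap_matrix_apply, hij]) QO (σ s), hmap,
      RingHom.mapMatrix_apply, ← hσ s,
      show LinearMap.toMatrixAlgEquiv c (ρ s) = (LinearMap.toMatrixAlgEquiv c).toAlgHom (ρ s)
        from rfl,
      Polynomial.aeval_algHom_apply, hQ, map_zero]
  have hres : (QO.map (IsLocalRing.residue O)) = (Polynomial.X - 1) ^ Z.card := by
    simp only [QO, Polynomial.map_prod, Polynomial.map_sub, Polynomial.map_X, Polynomial.map_C]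
    rw [Finset.prod_congr rfl (fun z _ => by
      rw [residue_root (p := p) hO (ζ := ⟨z.1, root_mem hp.out.ne_zero (hZp _ z.2)⟩)
        (hZp _ z.2), map_one]), Finset.prod_const, Finset.card_attach]
  have hk : ((σ s).map (IsLocalRing.residue O) - 1) ^ Z.card = 0 := by
    have h1 := congrArg (IsLocalRing.residue O).mapMatrix hQσ
    rw [map_zero, Polynomial.map_aeval_eq_aeval_map (φ := IsLocalRing.residue O)
      (ψ := (IsLocalRing.residue O).mapMatrix)
      (by ext a i j; by_cases hij : i = j <;> simp [Matrix.algebraMap_matrix_apply, hij]) QO (σ s), hres] at h1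
    simpa using h1
  exact pow_eq_zero_of_le Finset.card_image_le hk

/-- A tensor product with the contragredient. -/
noncomputable def endForm {r : ℕ} (σ : G →* Matrix (Fin r) (Fin r) O) :
    G →* Matrix (Fin r × Fin r) (Fin r × Fin r) O where
  toFun g := σ g ⊗ₖ (σ g⁻¹).transpose
  map_one' := by rw [inv_one, map_one, Matrix.transpose_one, Matrix.one_kronecker_one]
  map_mul' g h := by
    rw [mul_inv_rev, map_mul, map_mul, Matrix.transpose_mul, Matrix.mul_kronecker_mul]

theorem endForm_trace {r : ℕ} (σ : G →* Matrix (Fin r) (Fin r) O) (g : G) :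
    (endForm σ g).trace = (σ g).trace * (σ g⁻¹).trace := by
  change (σ g ⊗ₖ (σ g⁻¹).transpose).trace = _
  rw [Matrix.trace_kronecker, Matrix.trace_transpose]

theorem kron_nilpotent {k : Type*} [CommRing k] {m n : Type*} [Fintype m] [Fintype n]
    [DecidableEq m] [DecidableEq n] (A : Matrix m m k) (B : Matrix n n k) (a b : ℕ)
    (hA : (A - 1) ^ a = 0) (hB : (B - 1) ^ b = 0) :
    (A ⊗ₖ B - 1) ^ (a + b - 1) = 0 := by
  have e : A ⊗ₖ B - 1 = (A - 1) ⊗ₖ B + (1 : Matrix m m k) ⊗ₖ (B - 1) := by
    rw [← Matrix.one_kronecker_one (α := k) (m := m) (n := n)]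
    ext ⟨i, j⟩ ⟨i', j'⟩
    simp only [Matrix.sub_apply, Matrix.add_apply, Matrix.kronecker_apply]
    ring
  have hcomm : Commute ((A - 1) ⊗ₖ B) ((1 : Matrix m m k) ⊗ₖ (B - 1)) := by
    change _ * _ = _ * _
    rw [← Matrix.mul_kronecker_mul, ← Matrix.mul_kronecker_mul, one_mul, mul_one, mul_sub,
      sub_mul, mul_one, one_mul]
  have hpow : ∀ (X : Matrix m m k) (Y : Matrix n n k) (j : ℕ),
      (X ⊗ₖ Y) ^ j = (X ^ j) ⊗ₖ (Y ^ j) := by
    intro X Y j
    induction j with
    | zero => rw [pow_zero, pow_zero, pow_zero, Matrix.one_kronecker_one]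
    | succ j ih => rw [pow_succ, pow_succ, pow_succ, ih, ← Matrix.mul_kronecker_mul]
  rw [e]
  refine hcomm.add_pow_eq_zero_of_add_le_succ_of_pow_eq_zero (m := a) (n := b) ?_ ?_ (by omega)
  · rw [hpow, hA, Matrix.zero_kronecker]
  · rw [hpow, hB, Matrix.kronecker_zero]

theorem endForm_nilpotent {r : ℕ} (σ : G →* Matrix (Fin r) (Fin r) O) {k : ℕ}
    (hσ : ∀ s ∈ (P : Subgroup G), ((σ s).map (IsLocalRing.residue O) - 1) ^ k = 0) :
    ∀ s ∈ (P : Subgroup G),
      ((endForm σ s).map (IsLocalRing.residue O) - 1) ^ (k + k - 1) = 0 := by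
  intro s hs
  have e : (endForm σ s).map (IsLocalRing.residue O) =
      ((σ s).map (IsLocalRing.residue O)) ⊗ₖ ((σ s⁻¹).map (IsLocalRing.residue O)).transpose := by
    ext ⟨i, j⟩ ⟨i', j'⟩
    simp [endForm]
  rw [e]
  refine kron_nilpotent _ _ k k (hσ s hs) ?_
  have h1 := congrArg Matrix.transpose (hσ s⁻¹ ((P : Subgroup G).inv_mem hs))
  rw [Matrix.transpose_pow, Matrix.transpose_sub, Matrix.transpose_one, Matrix.transpose_zero] at h1
  exact h1

/-- Norms over the group and over the normalizer agree for small support on `P`. -/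
theorem classInner_self_eq (h : Uniform P) (hP : Nat.card (P : Subgroup G) = p) {f : G → ℂ}
    (hf : Cfsg.IsCharacter G f) (hk : 2 * (h.supp f).card ≤ p) :
    Cfsg.classInner f f =
      Cfsg.classInner (fun n : nor P => f n) (fun n : nor P => f n) := by
  obtain ⟨O, hO⟩ := exists_subring p hp.out
  obtain ⟨r, σ, htr, hnil⟩ := exists_integral_of_supp h hP hO hf
  have h1 := average_eq P hO hP (endForm σ) fun s hs =>
    pow_eq_zero_of_le (by omega) (endForm_nilpotent σ hnil s hs)
  simp only [endForm_trace, MulMemClass.coe_mul, htr, IsCharacter.apply_inv hf] at h1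
  simpa [Cfsg.classInner, nor] using h1

/-- The same for the norm character, for a small nilpotency index. -/
theorem classInner_norm_eq_of_nilpotent (hO : (p : ℂ) ∈ O.nonunits)
    (hP : Nat.card (P : Subgroup G) = p) {f : G → ℂ}
    (hf : Cfsg.IsCharacter G f) {r : ℕ} (σ : G →* Matrix (Fin r) (Fin r) O)
    (htr : ∀ g, ((σ g).trace : ℂ) = f g) {k : ℕ}
    (hnil : ∀ s ∈ (P : Subgroup G), ((σ s).map (IsLocalRing.residue O) - 1) ^ k = 0)
    (hk : 4 * k ≤ p + 2) :
    Cfsg.classInner (fun g => f g * conj (f g)) (fun g => f g * conj (f g)) =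
      Cfsg.classInner (fun n : nor P => f n * conj (f n))
        (fun n : nor P => f n * conj (f n)) := by
  obtain ⟨r', e⟩ : ∃ r', Nonempty (Fin r × Fin r ≃ Fin r') := ⟨r * r, ⟨finProdFinEquiv⟩⟩
  obtain ⟨e⟩ := e
  let τ : G →* Matrix (Fin r') (Fin r') O :=
    (Matrix.reindexAlgEquiv O O e).toAlgHom.toMonoidHom.comp (endForm σ)
  have hτtr : ∀ g, ((τ g).trace : ℂ) = f g * conj (f g) := by
    intro g
    have : (τ g).trace = (endForm σ g).trace := by
      simp only [τ, Matrix.trace, Matrix.diag]
      exact Fintype.sum_equiv e.symm _ _ fun i => rfl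
    rw [this, endForm_trace, MulMemClass.coe_mul, htr, htr, IsCharacter.apply_inv hf]
  have hτnil : ∀ s ∈ (P : Subgroup G), ((τ s).map (IsLocalRing.residue O) - 1) ^
      (k + k - 1) = 0 := by
    intro s hs
    have h1 := endForm_nilpotent σ hnil s hs
    have h2 : (τ s).map (IsLocalRing.residue O) =
        Matrix.reindexAlgEquiv (IsLocalRing.ResidueField O) (IsLocalRing.ResidueField O) e
          ((endForm σ s).map (IsLocalRing.residue O)) := by
      ext i j
      rfl
    rw [h2, ← map_one (Matrix.reindexAlgEquiv (IsLocalRing.ResidueField O)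
      (IsLocalRing.ResidueField O) e), ← map_sub, ← map_pow, h1, map_zero]
  have h1 := average_eq P hO hP (endForm τ) fun s hs =>
    pow_eq_zero_of_le (by omega) (endForm_nilpotent τ hτnil s hs)
  simp only [endForm_trace, MulMemClass.coe_mul, hτtr, IsCharacter.apply_inv hf] at h1
  simpa [Cfsg.classInner, nor, mul_comm, mul_left_comm, mul_assoc] using h1

/-- The same for the norm character, for support a quarter of `p`. -/
theorem classInner_norm_eq (h : Uniform P) (hP : Nat.card (P : Subgroup G) = p) {f : G → ℂ}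
    (hf : Cfsg.IsCharacter G f) (hk : 4 * (h.supp f).card ≤ p + 2) :
    Cfsg.classInner (fun g => f g * conj (f g)) (fun g => f g * conj (f g)) =
      Cfsg.classInner (fun n : nor P => f n * conj (f n))
        (fun n : nor P => f n * conj (f n)) := by
  obtain ⟨O, hO⟩ := exists_subring p hp.out
  obtain ⟨r, σ, htr, hnil⟩ := exists_integral_of_supp h hP hO hf
  exact classInner_norm_eq_of_nilpotent hO hP hf σ htr hnil hk

end CfsgLib.LatticeFix
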